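import Cfsg.Agent.TwoF.SpD.Tool
import Cfsg.Agent.H19.Odd.ONEl
import Cfsg.Agent.H210.On7.Primes
import Cfsg.Agent.S2052
import Cfsg.Agent.S2078

/-!
# TwoF SP-D: the row of the O'Nan group (helper55)
-/

set_option autoImplicit false
set_option maxHeartbeats 400000

namespace Cfsg.Agent.TwoF.SpD.ON

open Cfsg Subgroup Matrix Cfsg.Agent.TwoF.Gen Cfsg.Agent.H859
open Cfsg.Spor (ON)
open Cfsg.Agent.BpSpor.ONanThree (U U_seven)
open Cfsg.Agent.H19.Odd.ONSeven (exists_hom scalar_of_center I I_sq)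
open Cfsg.Agent.H19.Odd.ONEl (x31 ord31 fifteen_dvd card_x31)
open Cfsg.Agent.KFacts.MulSpor.ON (w)
open Cfsg.Agent.KFacts.ON.OneClass (one_class card_ON finite_ON)

/-- a Weyl element -/
def W : SpecialLinearGroup (Fin 3) (ZMod 7) := ⟨!![0, 0, 1; 0, 5, 0; 4, 0, 0], by decide +kernel⟩

/-- a lower transvection -/
def L : SpecialLinearGroup (Fin 3) (ZMod 7) := ⟨!![1, 0, 0; 0, 1, 0; 4, 0, 1], by decide +kernel⟩

theorem data : ∃ a b z t y : ON, Heis.Rel 7 a b z ∧ t * t = 1 ∧ t * z * t⁻¹ = z⁻¹ ∧ IsConj z y ∧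
    orderOf (z * y) = 3 := by
  obtain ⟨φ, h⟩ := exists_hom
  have e : ∀ {x y : SpecialLinearGroup (Fin 3) (ZMod 7)}, x.1 = y.1 → φ x = φ y := fun h => congrArg φ (Subtype.ext h)
  refine ⟨φ (U 0 1 0), φ (U 1 0 0), φ (U 0 0 1), φ I, φ L, ⟨?_, ?_, ?_, ?_, ?_, ?_, fun e => ?_⟩, ?_, ?_,
    isConj_iff.2 ⟨φ W, ?_⟩, orderOf_eq_prime ?_ fun e => ?_⟩
  iterate 3 rw [← map_pow, U_seven, map_one]
  iterate 3 simp only [← map_mul]; exact e (by decide +kernel)
  · exact absurd (mem_center_iff.1 (h _ e) W) fun e => absurd (congrArg Subtype.val e) (by decide +kernel)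
  · rw [← map_mul, I_sq, map_one]
  · rw [mul_inv_eq_iff_eq_mul, eq_inv_mul_iff_mul_eq]
    simp only [← map_mul]
    exact e (by decide +kernel)
  · rw [mul_inv_eq_iff_eq_mul]
    simp only [← map_mul]
    exact e (by decide +kernel)
  · rw [pow_three, ← map_one φ]
    simp only [← map_mul]
    exact e (by decide +kernel)
  · rw [← map_mul] at e
    exact absurd (scalar_of_center (h _ e)).1.2.1 (by decide +kernel)

theorem eb_two {t : ON} (ht : orderOf t = 2) : EB 2 3 t 21 := by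
  obtain ⟨a, b, z, u, -, h1, h2, h3, -⟩ := data
  have h4 := eb_heis (p := 2) (m := 3) (by norm_num) (by norm_num) (by norm_num) h1 {1, 2, 3, 4, 5, 6} fun j hj => by
    have h5 : u⁻¹ * z * u = z ^ 6 := by
      rw [inv_eq_of_mul_eq_one_left h2, ← inv_eq_of_mul_eq_one_left h2, inv_eq_of_mul_eq_one_left h2]
      refine Eq.trans ?_ (h3.trans (inv_eq_of_mul_eq_one_left (by rw [← pow_succ, h1.wp])))
      rw [inv_eq_of_mul_eq_one_left h2]
    obtain ⟨l, -, e | e⟩ := (by decide : ∀ j ∈ ({1, 2, 3, 4, 5, 6} : Finset (ZMod 7)), ∃ l < 3,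
      j = ((1 * 2 ^ l : ℕ) : ZMod 7) ∨ j = ((6 * 2 ^ l : ℕ) : ZMod 7)) j hj
    · exact ⟨1, 1, l, by group, e⟩
    · exact ⟨u, 6, l, h5, e⟩
  have h5 : u ≠ 1 := fun e => by
    rw [e, one_mul, inv_one, mul_one, eq_inv_iff_mul_eq_one, ← pow_two, ← orderOf_dvd_iff_pow_eq_one,
      @Heis.orderOf_w _ _ _ _ _ _ ⟨by norm_num⟩ h1] at h3
    norm_num at h3
  refine (h4.inv (k := 4) (by rw [← pow_mul, pow_succ, h1.wp, one_mul]) h2 h3 (by decide)).conj
    ((one_class ?_ ?_).trans (one_class h2 h5).symm)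
  · rw [← pow_two, ← ht, pow_orderOf_eq_one]
  · rintro rfl
    norm_num at ht

theorem eb_three {p n n' : ℕ} [Fact p.Prime] (hp : 31 ≠ p) (hn : ∀ d < n, 0 < d → p ^ d % 31 ≠ 1 % 31)
    (h : 3 * n' < (3 - 1) * n + 3) {t : ON} (ht : orderOf t = 3) : EB p 3 t n' := by
  have := finite_ON
  obtain ⟨b, hb⟩ := exists_prime_orderOf_dvd_card' (G := normalizer (zpowers (w x31) : Set ON)) 3
    (((by norm_num : 3 ∣ 15).trans fifteen_dvd).trans (card_range_dvd _))
  rw [← orderOf_coe] at hb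
  obtain ⟨i, hi⟩ := mem_powers_iff_mem_zpowers.2 ((mem_normalizer_iff.1 b.2 _).1 (mem_zpowers _))
  obtain ⟨z, -, hz, -⟩ := H210.On7.exists_three
  refine ((eb_ord (by norm_num) hp ord31 hn).frob (q := 3) (e := 1) (by norm_num) hp (by norm_num) ord31 (by norm_num)
    (hb ▸ pow_orderOf_eq_one _) hi.symm (fun e => ?_) h).conj ((hz t ht).trans (hz _ hb).symm)
  have h1 := (centralizer {w x31}).orderOf_dvd_natCard (mem_centralizer_singleton_iff.2 e)
  rw [hb, card_x31] at h1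
  norm_num at h1

theorem row (p : ℕ) [hp : Fact p.Prime] : Row p ON := by
  have := finite_ON
  by_cases h2 : p = 2
  · subst h2
    refine (noOff_two S2078.result.dvd S2052.result (by rw [card_ON]; norm_num)
      (fun t ht => (eb_two ht).mono (by norm_num)) fun E _ j h0 hj => ?_).row
    obtain ⟨t, h1, h3⟩ := exists_elt h0 hj
    have h4 := le_of_card hj (e := 9) (by rw [card_ON]; norm_num)
    exact ⟨t, h1, (eb_two h3).mono (by omega)⟩
  have ho : ¬ p ∣ Nat.card (Out ON) := fun e => h2 ((Nat.prime_dvd_prime_iff_eq hp.out Nat.prime_two).1 (S2078.result ▸ e))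
  by_cases h3 : p = 3
  · subst h3
    refine row_odd ho S2052.result fun E _ j h0 hj => ?_
    obtain ⟨t, h1, h3⟩ := exists_elt (Nat.zero_lt_of_lt h0) hj
    have h4 := le_of_card hj (e := 4) (by rw [card_ON]; norm_num)
    exact ⟨t, h1, eb_three (n := 30) (by norm_num) (by decide) (by omega) h3⟩
  by_cases h7 : p = 7
  · subst h7
    refine row_odd ho S2052.result fun E hE j h0 hj => ?_
    obtain ⟨a, b, z, -, y, h1, -, -, h4, h5⟩ := data
    obtain ⟨rfl, t, h6, h8⟩ := heis_mem h1 (by rw [card_ON]; norm_num) hE h0 hj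
    exact ⟨t, h6, (eb_three (n := 15) (n' := 10) (by norm_num) (by decide) (by norm_num) h5).mul h8 (h8.trans h4)
      (by norm_num)⟩
  refine row_sq ho S2052.result fun h1 => ?_
  rw [card_ON, show 460815505920 = 2 ^ 9 * 3 ^ 4 * 7 ^ 3 * (5 * 11 * 19 * 31) by norm_num] at h1
  have h4 : ∀ {q : ℕ}, q.Prime → p ≠ q → ∀ n, Nat.Coprime (p ^ 2) (q ^ n) := fun hq h n =>
    ((Nat.coprime_primes hp.out hq).2 h).pow _ _
  have h5 := (((h4 Nat.prime_two h2 9).mul_right (h4 Nat.prime_three h3 4)).mul_right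
    (h4 (by norm_num) h7 3)).dvd_of_dvd_mul_left h1
  have h6 : Squarefree (5 * 11 * 19 * 31) := by
    simp only [Nat.squarefree_mul_iff]
    refine ⟨by norm_num, ⟨by norm_num, ⟨by norm_num, ?_, ?_⟩, ?_⟩, ?_⟩ <;> exact (Nat.Prime.prime (by norm_num)).squarefree
  exact hp.out.one_lt.ne' (Nat.isUnit_iff.1 (h6 p (by rwa [← pow_two])))

end Cfsg.Agent.TwoF.SpD.ON
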